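import Mathlib
import Cfsg.Agent.H721.SR.Orth
import Cfsg.Agent.H899.O7.Zass
import Cfsg.Agent.H382.Own5Lin

/-!
# TEAM SR, A pieces: the general step

`T_of_invol` : an isometric involution `h` inverting `g` (no eigenvalue `±1`, `dim V = 2 d`), and `r` in the
centraliser of `g`, with adjoint `h r h`, nonsquare determinant and `det (r + h r h) ≠ 0`, give `T Q g ((-1)^d) s`
for both signs `s`.
-/

set_option autoImplicit false

namespace Cfsg.Agent.H595.SR

open Polynomial Module QuadraticMap
open Cfsg.Agent.LieClassical.OrthCore Cfsg.Agent.H160.QSpin Cfsg.Agent.H160.QDisc Cfsg.Agent.H160.QSplit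
open Cfsg.Agent.H721.SR

section Adj

variable {F V : Type*} [Field F] [AddCommGroup V] [Module F V]

/-- adjoint of a polynomial in `g` -/
theorem polar_aeval {Q : QuadraticForm F V} {g : V ≃ₗ[F] V} (hg : g ∈ O Q) (p : F[X]) (x y : V) :
    polar Q (aeval (en g) p x) y = polar Q x (aeval (en g⁻¹) p y) := by
  induction p using Polynomial.induction_on' generalizing x y with
  | add p q hp hq =>
    rw [map_add, map_add, LinearMap.add_apply, LinearMap.add_apply, polar_add_left, polar_add_right, hp, hq]
  | monomial n a =>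
    have h1 : ∀ (n : ℕ) (x y : V), polar Q ((en g ^ n) x) y = polar Q x ((en g⁻¹ ^ n) y) := by
      intro n
      induction n with
      | zero => intro x y; rfl
      | succ n ih =>
        intro x y
        rw [pow_succ', Module.End.mul_apply, pow_succ, Module.End.mul_apply]
        rw [← ih]
        exact polar_inv hg _ _
    rw [aeval_monomial, aeval_monomial, Module.End.mul_apply, Module.End.mul_apply, algebraMap_end_apply,
      algebraMap_end_apply, polar_smul_left, polar_smul_right, h1]

end Adj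

variable {F V : Type*} [Field F] [Fintype F] [DecidableEq F] [AddCommGroup V] [Module F V] [FiniteDimensional F V]
  [Finite V]

omit [Fintype F] [DecidableEq F] [Finite V] in
/-- a linear map which is injective has nonzero determinant -/
theorem det_ne_zero_of_inj {T : Module.End F V} (h : ∀ x, T x = 0 → x = 0) : LinearMap.det T ≠ 0 := by
  have h1 : LinearMap.ker T = ⊥ := by
    rw [LinearMap.ker_eq_bot']
    exact h
  have h2 : IsUnit T := (LinearMap.isUnit_iff_ker_eq_bot T).2 h1
  exact ((LinearMap.isUnit_iff_isUnit_det T).1 h2).ne_zero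

omit [Fintype F] [DecidableEq F] [Finite V] in
/-- a self-adjoint map commuting with a skew-adjoint isomorphism has square determinant -/
theorem isSquare_det_of_comm (h2 : (2 : F) ≠ 0) {Q : QuadraticForm F V} (hQ : Nondeg Q) {S e : Module.End F V}
    (hS : ∀ x y, polar Q (S x) y = - polar Q x (S y)) (he : ∀ x y, polar Q (e x) y = polar Q x (e y))
    (hc : S * e = e * S) (hSd : LinearMap.det S ≠ 0) (hed : LinearMap.det e ≠ 0) : IsSquare (LinearMap.det e) := by
  have key : ∀ (t : Module.End F V), (∀ x y, polar Q (t x) y = - polar Q x (t y)) → LinearMap.det t ≠ 0 →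
      IsSquare (gdet Q * LinearMap.det t) := by
    intro t ht htd
    let b := finBasis F V
    let A : LinearMap.BilinForm F V := LinearMap.BilinForm.compRight (polarBilin Q) t
    have hA : A.IsAlt := by
      intro x
      show polar Q x (t x) = 0
      have h1 := ht x x
      rw [polar_comm Q (t x) x] at h1
      have h3 : 2 * polar Q x (t x) = 0 := by linear_combination h1
      exact (mul_eq_zero.1 h3).resolve_left h2
    have hsurj : Function.Surjective t := by
      have h1 : IsUnit t := (LinearMap.isUnit_iff_isUnit_det t).2 (isUnit_iff_ne_zero.2 htd)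
      exact ((Module.End.isUnit_iff t).1 h1).2
    have hnd : ∀ u, (∀ v, A u v = 0) → u = 0 := by
      intro u hu
      apply hQ
      intro y
      obtain ⟨v, rfl⟩ := hsurj y
      exact hu v
    have h1 := isSquare_det_of_isAlt A hA hnd b
    have h3 : LinearMap.BilinForm.toMatrix b A =
        LinearMap.BilinForm.toMatrix b (polarBilin Q) * LinearMap.toMatrix b b t :=
      LinearMap.BilinForm.toMatrix_compRight b (polarBilin Q) t
    rw [h3, Matrix.det_mul, LinearMap.det_toMatrix] at h1
    exact h1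
  have k1 := key S hS hSd
  have k2 := key (e * S) (by
    intro x y
    rw [Module.End.mul_apply, he, hS, ← Module.End.mul_apply, hc]) (by
    rw [map_mul]; exact mul_ne_zero hed hSd)
  rw [map_mul] at k2
  obtain ⟨a, ha⟩ := k1
  obtain ⟨b, hb⟩ := k2
  have ha0 : a ≠ 0 := by
    rintro rfl
    rw [mul_zero] at ha
    exact (mul_ne_zero (gdet_ne hQ) hSd) ha
  refine ⟨b / a, ?_⟩
  have h3 : a * a * LinearMap.det e = b * b := by rw [← ha, ← hb]; ring
  field_simp
  linear_combination h3

omit [Fintype F] [DecidableEq F] [Finite V] in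
/-- the determinant of the inverting involution -/
theorem det_of_invol (h2 : (2 : F) ≠ 0) {h : V ≃ₗ[F] V} (hh : h * h = 1) {S : Module.End F V}
    (hS : ∀ x, h (S x) = - S (h x)) (hSi : ∀ x, S x = 0 → x = 0) {d : ℕ} (hd : finrank F V = 2 * d) :
    LinearMap.det (en h) = (-1) ^ d := by
  have hhv : ∀ v, en h (en h v) = v := fun v => LinearEquiv.congr_fun hh v
  rw [Cfsg.Agent.H382.Own5.det_invol h2 hhv]
  congr 1
  have hc : IsCompl (Cfsg.Agent.H382.Own5.eig (en h) 1) (Cfsg.Agent.H382.Own5.eig (en h) (-1)) :=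
    Cfsg.Agent.H382.Own5.eig_compl h2 one_ne_zero (fun v => by rw [hhv, one_mul, one_smul])
  have hadd := Submodule.finrank_add_eq_of_isCompl hc
  have hle : ∀ c c' : F, c' = -c → finrank F (Cfsg.Agent.H382.Own5.eig (en h) c) ≤
      finrank F (Cfsg.Agent.H382.Own5.eig (en h) c') := by
    intro c c' hcc
    let φ : Cfsg.Agent.H382.Own5.eig (en h) c →ₗ[F] Cfsg.Agent.H382.Own5.eig (en h) c' :=
      (S.restrict (fun x hx => by
        rw [Cfsg.Agent.H382.Own5.mem_eig] at hx ⊢
        have h3 : en h (S x) = - S (en h x) := hS x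
        rw [h3, hx, map_smul, hcc, neg_smul]) :
        Cfsg.Agent.H382.Own5.eig (en h) c →ₗ[F] Cfsg.Agent.H382.Own5.eig (en h) c')
    apply LinearMap.finrank_le_finrank_of_injective (f := φ)
    rw [← LinearMap.ker_eq_bot, LinearMap.ker_eq_bot']
    intro x hx
    apply Subtype.ext
    apply hSi
    exact congrArg Subtype.val hx
  have l1 := hle 1 (-1) rfl
  have l2 := hle (-1) 1 (neg_neg 1).symm
  rw [hd] at hadd
  omega

/-- **general step** -/
theorem T_of_invol (h2 : (2 : F) ≠ 0) {Q : QuadraticForm F V} (hQ : Nondeg Q) {g h : V ≃ₗ[F] V}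
    (hh : h * h = 1) (hhO : h ∈ O Q) (hhg : h * g * h⁻¹ = g⁻¹) {d : ℕ} (hd : finrank F V = 2 * d)
    (hg : g ∈ O Q) (hgi : ∀ x, g x = g⁻¹ x → x = 0)
    {r r' : Module.End F V} (hr : ∀ x y, polar Q (r x) y = polar Q x (r' y)) (hrr : r * r' = r' * r)
    (hrg : r * en g = en g * r) (hr'g : r' * en g = en g * r') (hhr : ∀ x, h (r x) = r' (h x))
    (hns : ¬ IsSquare (LinearMap.det r)) (hne : LinearMap.det (r + r') ≠ 0) (s : ℤˣ) :
    T Q g ((-1) ^ d) s := by
  have hhv : ∀ v, h (h v) = v := fun v => LinearEquiv.congr_fun hh v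
  have hinv : h⁻¹ = h := inv_eq_of_mul_eq_one_right hh
  have hhgv : ∀ v, h (g v) = g⁻¹ (h v) := by
    intro v
    have h3 := LinearEquiv.congr_fun hhg (h v)
    rw [hinv] at h3
    have h4 : (h * g * h) (h v) = h (g (h (h v))) := rfl
    rw [h4, hhv] at h3
    exact h3
  have hhgv' : ∀ v, h (g⁻¹ v) = g (h v) := by
    intro v
    have h3 := hhgv (h v)
    rw [hhv] at h3
    rw [← h3, hhv]
  -- the skew map
  set S : Module.End F V := en g - en g⁻¹ with hS
  have hSa : ∀ x, S x = g x - g⁻¹ x := fun x => rfl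
  have hSskew : ∀ x y, polar Q (S x) y = - polar Q x (S y) := by
    intro x y
    have i1 : polar Q (g⁻¹ x) y = polar Q x (g y) := by
      have := polar_inv ((O Q).inv_mem hg) x y
      rw [inv_inv] at this
      exact this
    rw [hSa, hSa, polar_sub_left, polar_sub_right, polar_inv hg, i1]
    ring
  have hSi : ∀ x, S x = 0 → x = 0 := by
    intro x hx
    rw [hSa, sub_eq_zero] at hx
    exact hgi x hx
  have hdet : LinearEquiv.det h = (-1) ^ d := by
    apply Units.ext
    rw [LinearEquiv.coe_det]
    have h3 : LinearMap.det (en h) = (-1) ^ d := by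
      refine det_of_invol h2 hh (S := S) (fun x => ?_) hSi hd
      rw [hSa, hSa, map_sub, hhgv, hhgv']
      abel
    rw [h3]
    simp
  by_cases hs : spin Q ⟨h, hhO⟩ = s
  · exact ⟨h, hhO, hh, hhg, hdet, hs⟩
  -- `c = r r'⁻¹`
  have hrdet : LinearMap.det r' = LinearMap.det r := by
    have h3 : r' = en h * r * en h := by
      apply LinearMap.ext
      intro x
      rw [Module.End.mul_apply, Module.End.mul_apply]
      show r' x = h (r (h x))
      rw [hhr, hhv]
    rw [h3, map_mul, map_mul]
    have h4 : LinearMap.det (en h) * LinearMap.det (en h) = 1 := by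
      rw [← map_mul, ← en_mul, hh]
      exact map_one _
    linear_combination (LinearMap.det r) * h4
  have hrne : LinearMap.det r ≠ 0 := by
    intro h0
    apply hns
    rw [h0]
    exact ⟨0, by simp⟩
  have hr'ne : LinearMap.det r' ≠ 0 := by rw [hrdet]; exact hrne
  have hr' : ∀ x y, polar Q (r' x) y = polar Q x (r y) := by
    intro x y
    rw [polar_comm, ← hr, polar_comm]
  have hru : IsUnit r := (LinearMap.isUnit_iff_isUnit_det r).2 (isUnit_iff_ne_zero.2 hrne)
  have hru' : IsUnit r' := (LinearMap.isUnit_iff_isUnit_det r').2 (isUnit_iff_ne_zero.2 hr'ne)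
  obtain ⟨u, hu⟩ := hru
  obtain ⟨u', hu'⟩ := hru'
  have huu : u * u' = u' * u := by
    apply Units.ext
    rw [Units.val_mul, Units.val_mul, hu, hu', hrr]
  let c : V ≃ₗ[F] V := LinearMap.GeneralLinearGroup.generalLinearEquiv F V (u * u'⁻¹)
  obtain ⟨ri, hri⟩ : ∃ ri : Module.End F V, ri = ((u'⁻¹ : (Module.End F V)ˣ) : Module.End F V) := ⟨_, rfl⟩
  have hcv : ∀ x, c x = r (ri x) := by
    intro x
    show ((u * u'⁻¹ : (Module.End F V)ˣ) : Module.End F V) x = _
    rw [Units.val_mul, Module.End.mul_apply, hu, hri]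
  have hu'v : ∀ x, r' (ri x) = x := by
    intro x
    have h3 := LinearMap.congr_fun (Units.mul_inv u') x
    rw [Module.End.mul_apply, hu', ← hri] at h3
    exact h3
  have hu'v' : ∀ x, ri (r' x) = x := by
    intro x
    have h3 := LinearMap.congr_fun (Units.inv_mul u') x
    rw [Module.End.mul_apply, hu', ← hri] at h3
    exact h3
  have hcr : ∀ x, c (r' x) = r x := by
    intro x
    rw [hcv, hu'v']
  have hsurj' : ∀ x, ∃ y, r' y = x := fun x => ⟨_, hu'v x⟩
  have hcO : c ∈ O Q := by
    intro x
    obtain ⟨y, rfl⟩ := hsurj' x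
    rw [hcr]
    have h3 : polar Q (r y) (r y) = polar Q (r' y) (r' y) := by
      rw [hr, hr', ← Module.End.mul_apply, ← Module.End.mul_apply, hrr]
    rw [polar_self', polar_self'] at h3
    exact mul_left_cancel₀ h2 h3
  have hcg : c * g = g * c := by
    ext x
    obtain ⟨y, rfl⟩ := hsurj' x
    show c (g (r' y)) = g (c (r' y))
    have h3 : g (r' y) = r' (g y) := (LinearMap.congr_fun hr'g y).symm
    rw [h3, hcr, hcr]
    exact LinearMap.congr_fun hrg y
  have hhr' : ∀ x, h (r' x) = r (h x) := by
    intro x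
    have h3 := hhr (h x)
    rw [hhv] at h3
    rw [← h3, hhv]
  have hch : (h * c) * (h * c) = 1 := by
    ext x
    obtain ⟨y, rfl⟩ := hsurj' x
    show h (c (h (c (r' y)))) = r' y
    rw [hcr, hhr, hcr, hhr, hhv]
  have hen : en c * r' = r := by
    apply LinearMap.ext
    intro x
    exact hcr x
  have hdetc : LinearMap.det (en c) = 1 := by
    have h3 := congrArg LinearMap.det hen
    rw [map_mul, hrdet] at h3
    exact mul_right_cancel₀ hrne (by rw [h3, one_mul])
  have hdetc' : LinearEquiv.det c = 1 := by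
    apply Units.ext
    rw [LinearEquiv.coe_det]
    exact hdetc
  have hdet1 : LinearMap.det (1 + en c) * LinearMap.det r' = LinearMap.det (r + r') := by
    rw [← map_mul, add_mul, one_mul, hen, add_comm]
  have hdet1ne : LinearMap.det (1 + en c) ≠ 0 := by
    intro h0
    rw [h0, zero_mul] at hdet1
    exact hne hdet1.symm
  have hsq : IsSquare (LinearMap.det (r + r')) := by
    refine isSquare_det_of_comm h2 hQ (S := S) hSskew (fun x y => ?_) ?_ (det_ne_zero_of_inj hSi) hne
    · rw [LinearMap.add_apply, LinearMap.add_apply, polar_add_left, polar_add_right, hr, hr', add_comm]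
    · have hcom : ∀ t : Module.End F V, t * en g = en g * t → t * en g⁻¹ = en g⁻¹ * t := by
        intro t ht
        have h3 : en g⁻¹ * (t * en g) * en g⁻¹ = en g⁻¹ * (en g * t) * en g⁻¹ := by rw [ht]
        rw [mul_assoc, mul_assoc, en_mul_inv, mul_one, ← mul_assoc (en g⁻¹) (en g) t, en_inv_mul, one_mul] at h3
        exact h3.symm
      have c1 := hcom r hrg
      have c2 := hcom r' hr'g
      rw [hS, sub_mul, mul_sub, mul_add, mul_add, add_mul, add_mul, hrg, hr'g, c1, c2]
  have hqc : quadraticChar F (LinearMap.det (1 + en c)) = -1 := by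
    have h3 := congrArg (quadraticChar F) hdet1
    rw [map_mul, hrdet, (quadraticChar_one_iff_isSquare hne).2 hsq, quadraticChar_neg_one_iff_not_isSquare.2 hns] at h3
    linarith
  have hspin : ((spin Q ⟨c, hcO⟩ : ℤˣ) : ℤ) = -1 := by
    rw [Cfsg.Agent.H899.O7.Zass.zass h2 hQ ⟨d, by rw [hd]; ring⟩ (finrank F V) hcO hdetc' hdet1ne (by omega), hqc]
  have hspin' : spin Q ⟨c, hcO⟩ = -1 := Units.ext hspin
  refine ⟨h * c, (O Q).mul_mem hhO hcO, hch, ?_, by rw [map_mul, hdetc', hdet, mul_one], ?_⟩
  · rw [mul_inv_rev, mul_assoc h c g, hcg]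
    rw [← hhg]
    group
  · have h3 : (⟨h * c, (O Q).mul_mem hhO hcO⟩ : O Q) = ⟨h, hhO⟩ * ⟨c, hcO⟩ := rfl
    rw [h3, map_mul, hspin']
    rcases Int.units_eq_one_or (spin Q ⟨h, hhO⟩) with h4 | h4 <;> rcases Int.units_eq_one_or s with h5 | h5
    · exact absurd (h4.trans h5.symm) hs
    · rw [h4, h5, one_mul]
    · rw [h4, h5, neg_mul_neg, one_mul]
    · exact absurd (h4.trans h5.symm) hs

end Cfsg.Agent.H595.SR
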