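import Mathlib
import Cfsg.Agent.H595.SR.Core
import Cfsg.Agent.H152.Tuple

/-!
# TEAM SR, A pieces: the inverting involution of a cyclic module

* `mem_cyc` : `cyc g v` is the set of the `p(g) v`;
* `exists_invol` : if `V = F[g] u` there is an isometric involution `h` with `h (p(g) u) = p(g⁻¹) u`;
* `det_aeval` : `det p(g) = nm M p` if `V = F[g] u` and `(M)` is the annihilator of `u`;
* `T_of_gen` : the summary.
-/

set_option autoImplicit false

namespace Cfsg.Agent.H595.SR

open Polynomial Module QuadraticMap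
open Cfsg.Agent.LieClassical.OrthCore Cfsg.Agent.H160.QSpin Cfsg.Agent.H160.QDisc Cfsg.Agent.H160.QSplit
open Cfsg.Agent.H721.SR Cfsg.Agent.H152

section

variable {F V : Type*} [Field F] [AddCommGroup V] [Module F V]

theorem aeval_comm (T : Module.End F V) (p q : F[X]) (x : V) :
    aeval T p (aeval T q x) = aeval T q (aeval T p x) := by
  rw [← Module.End.mul_apply, ← Module.End.mul_apply, ← map_mul, ← map_mul, mul_comm]

theorem aeval_inv_comm (g : V ≃ₗ[F] V) (p q : F[X]) :
    aeval (en g) p * aeval (en g⁻¹) q = aeval (en g⁻¹) q * aeval (en g) p := by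
  have h : Commute (en g) (en g⁻¹) := by
    show en g * en g⁻¹ = en g⁻¹ * en g
    rw [en_mul_inv, en_inv_mul]
  have h1 : Commute (aeval (en g) p) (en g⁻¹) := by
    induction p using Polynomial.induction_on' with
    | add p q hp hq => rw [map_add]; exact hp.add_left hq
    | monomial n a =>
      rw [aeval_monomial]
      exact (Algebra.commute_algebraMap_left a _).mul_left (h.pow_left n)
  have h2 : Commute (aeval (en g) p) (aeval (en g⁻¹) q) := by
    induction q using Polynomial.induction_on' with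
    | add p q hp hq => rw [map_add]; exact hp.add_right hq
    | monomial n a =>
      rw [aeval_monomial]
      exact (Algebra.commute_algebraMap_right a _).mul_right (h1.pow_right n)
  exact h2

theorem aeval_inv_comm_apply (g : V ≃ₗ[F] V) (p q : F[X]) (x : V) :
    aeval (en g) p (aeval (en g⁻¹) q x) = aeval (en g⁻¹) q (aeval (en g) p x) :=
  LinearMap.congr_fun (aeval_inv_comm g p q) x

theorem mem_cyc [Finite V] (g : V ≃ₗ[F] V) (v x : V) : x ∈ cyc g v ↔ ∃ p : F[X], aeval (en g) p v = x := by
  constructor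
  · intro hx
    refine Submodule.span_induction ?_ ⟨0, by simp⟩ ?_ ?_ hx
    · rintro _ ⟨i, rfl⟩
      have hfin : Finite (V ≃ₗ[F] V) := Finite.of_injective (fun e : V ≃ₗ[F] V => (e : V → V)) DFunLike.coe_injective
      obtain ⟨n, hn⟩ : ∃ n : ℕ, g ^ n = g ^ i := by
        have h1 : g ^ i ∈ Submonoid.powers g := by
          rw [mem_powers_iff_mem_zpowers]
          exact ⟨i, rfl⟩
        exact h1
      refine ⟨X ^ n, ?_⟩
      rw [map_pow, aeval_X, ← en_pow, hn]
      rfl
    · rintro x y _ _ ⟨p, rfl⟩ ⟨q, rfl⟩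
      exact ⟨p + q, by rw [map_add]; rfl⟩
    · rintro a x _ ⟨p, rfl⟩
      exact ⟨C a * p, by rw [map_mul, aeval_C, Module.End.mul_apply, algebraMap_end_apply]⟩
  · rintro ⟨p, rfl⟩
    induction p using Polynomial.induction_on' with
    | add p q hp hq => rw [map_add]; exact Submodule.add_mem _ hp hq
    | monomial n a =>
      rw [aeval_monomial, Module.End.mul_apply, algebraMap_end_apply, ← en_pow]
      apply Submodule.smul_mem
      apply Submodule.subset_span
      refine ⟨n, ?_⟩
      show (g ^ ((n : ℕ) : ℤ)) v = (g ^ n) v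
      rw [zpow_natCast]

theorem cyc_inv [Finite V] (g : V ≃ₗ[F] V) (v : V) : cyc g⁻¹ v = cyc g v := by
  unfold cyc
  congr 1
  ext x
  constructor
  · rintro ⟨i, rfl⟩
    exact ⟨-i, by simp⟩
  · rintro ⟨i, rfl⟩
    exact ⟨-i, by simp⟩

/-- the module map `h` -/
theorem exists_invol (h2 : (2 : F) ≠ 0) {Q : QuadraticForm F V} (hQ : Nondeg Q) {g : V ≃ₗ[F] V} (hg : g ∈ O Q) {u : V}
    (hu : ∀ x, ∃ p : F[X], aeval (en g) p u = x) :
    ∃ h : V ≃ₗ[F] V, h ∈ O Q ∧ h * h = 1 ∧ h * g * h⁻¹ = g⁻¹ ∧
      ∀ (p : F[X]) (x : V), h (aeval (en g) p x) = aeval (en g⁻¹) p (h x) := by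
  let φ : F[X] →ₗ[F] V := (LinearMap.applyₗ u).comp (aeval (en g)).toLinearMap
  let ψ : F[X] →ₗ[F] V := (LinearMap.applyₗ u).comp (aeval (en g⁻¹)).toLinearMap
  have hφ : ∀ p, φ p = aeval (en g) p u := fun _ => rfl
  have hψ : ∀ p, ψ p = aeval (en g⁻¹) p u := fun _ => rfl
  have hφs : LinearMap.range φ = ⊤ := by
    rw [LinearMap.range_eq_top]
    exact hu
  obtain ⟨σ, hσ⟩ := φ.exists_rightInverse_of_surjective hφs
  have hker : ∀ p, φ p = 0 → ψ p = 0 := by
    intro p hp
    rw [hφ] at hp
    rw [hψ]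
    apply hQ
    intro y
    rw [polar_comm, ← polar_aeval hg]
    obtain ⟨q, rfl⟩ := hu y
    rw [aeval_comm, hp, map_zero]
    exact polar_zero_left Q _
  have hH : ∀ p, ψ (σ (φ p)) = ψ p := by
    intro p
    rw [← sub_eq_zero, ← map_sub]
    apply hker
    rw [map_sub]
    have := LinearMap.congr_fun hσ (φ p)
    rw [LinearMap.comp_apply, LinearMap.id_apply] at this
    rw [this, sub_self]
  let H : V →ₗ[F] V := ψ.comp σ
  have hHa : ∀ p, H (aeval (en g) p u) = aeval (en g⁻¹) p u := hH
  have hHu : H u = u := by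
    have := hHa 1
    rwa [map_one, map_one] at this
  have hHp : ∀ (p : F[X]) (x : V), H (aeval (en g) p x) = aeval (en g⁻¹) p (H x) := by
    intro p x
    obtain ⟨q, rfl⟩ := hu x
    have h3 : aeval (en g) p (aeval (en g) q u) = aeval (en g) (p * q) u := by rw [map_mul]; rfl
    rw [h3, hHa, hHa, map_mul]
    rfl
  have hHg : ∀ x, H (g x) = g⁻¹ (H x) := by
    intro x
    have := hHp X x
    rwa [aeval_X, aeval_X] at this
  have hHg' : ∀ x, H (g⁻¹ x) = g (H x) := by
    intro x
    have h3 := hHg (g⁻¹ x)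
    have h4 : g (g⁻¹ x) = x := g.apply_symm_apply x
    rw [h4] at h3
    rw [h3]
    exact (g.apply_symm_apply _).symm
  have hHp' : ∀ (p : F[X]) (x : V), H (aeval (en g⁻¹) p x) = aeval (en g) p (H x) := by
    intro p
    induction p using Polynomial.induction_on' with
    | add p q hp hq =>
      intro x
      rw [map_add, map_add, LinearMap.add_apply, LinearMap.add_apply, map_add, hp, hq]
    | monomial n a =>
      intro x
      rw [aeval_monomial, aeval_monomial, Module.End.mul_apply, Module.End.mul_apply, algebraMap_end_apply,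
        algebraMap_end_apply, map_smul]
      congr 1
      induction n generalizing x with
      | zero => rfl
      | succ n ih =>
        rw [pow_succ, pow_succ, Module.End.mul_apply, Module.End.mul_apply, ih]
        congr 1
        exact hHg' x
  have hHH : ∀ x, H (H x) = x := by
    intro x
    obtain ⟨p, rfl⟩ := hu x
    rw [hHa, hHp', hHu]
  let h : V ≃ₗ[F] V := LinearEquiv.ofInvolutive H hHH
  have hh : ∀ x, h x = H x := fun _ => rfl
  have hhh : h * h = 1 := by
    ext x
    exact hHH x
  refine ⟨h, ?_, hhh, ?_, hHp⟩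
  · intro x
    have h3 : polar Q (H x) (H x) = polar Q x x := by
      obtain ⟨p, rfl⟩ := hu x
      rw [hHa, ← polar_aeval hg, aeval_inv_comm_apply, polar_comm, ← polar_aeval hg]
    rw [polar_self', polar_self'] at h3
    exact mul_left_cancel₀ h2 h3
  · have hinv : h⁻¹ = h := inv_eq_of_mul_eq_one_right hhh
    rw [hinv]
    ext x
    show H (g (H x)) = g⁻¹ x
    rw [hHg, hHH]

end

end Cfsg.Agent.H595.SR
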