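import Mathlib
import Cfsg.Agent.H595.SR.Gen
import Cfsg.Agent.H152.Tilde

/-!
# TEAM SR, task SR-OODD_A: the A pieces (plan S4971, section 7)

* `T_cyclic` : cyclic piece, `f` does not divide `X ∓ 1`, `k` odd: `T Q g ((-1)^d) s` for both `s`;
* `T_pair`   : pair piece, `f` not associated to `f.reverse`, `k` odd: the same.
-/

set_option autoImplicit false

namespace Cfsg.Agent.H595.SR

open Polynomial Module QuadraticMap
open Cfsg.Agent.LieClassical.OrthCore Cfsg.Agent.H160.QSpin Cfsg.Agent.H160.QDisc Cfsg.Agent.H160.QSplit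
open Cfsg.Agent.H721.SR Cfsg.Agent.H152

section Gen

variable {F V : Type*} [Field F] [AddCommGroup V] [Module F V]

theorem aeval_mul_apply (T : Module.End F V) (p q : F[X]) (x : V) :
    aeval T (p * q) x = aeval T p (aeval T q x) := by
  rw [map_mul]; rfl

/-- multiplication by `q` is injective on a primary cyclic module if `f ∤ q` -/
theorem inj_of_ann {T : Module.End F V} {v : V} {f : F[X]} {k : ℕ} (hf : Irreducible f)
    (hann : ∀ p : F[X], aeval T p v = 0 ↔ f ^ k ∣ p) {q : F[X]} (hq : ¬ f ∣ q) (p : F[X])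
    (h : aeval T q (aeval T p v) = 0) : aeval T p v = 0 := by
  rw [← aeval_mul_apply, hann] at h
  rw [hann]
  have hc : IsCoprime (f ^ k) q := (hf.coprime_iff_not_dvd.2 hq).pow_left
  exact hc.dvd_of_dvd_mul_left h

/-- the determinant of `p(g)` on a cyclic module -/
theorem det_aeval_of_ann [FiniteDimensional F V] {T : Module.End F V} {u : V} {M : F[X]} (hM0 : M ≠ 0)
    (hu : ∀ x, ∃ p : F[X], aeval T p u = x) (hann : ∀ p : F[X], aeval T p u = 0 ↔ M ∣ p) (p : F[X]) :
    LinearMap.det (aeval T p) = nm M p := by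
  have h : IsCyc T (fun _ : Fin 1 => M) (fun _ => u) := by
    constructor
    · intro m
      obtain ⟨p, rfl⟩ := hu m
      exact ⟨fun _ => p, by rw [Fin.sum_univ_one]⟩
    · intro f
      rw [Fin.sum_univ_one, hann]
      exact ⟨fun h i => by rw [Subsingleton.elim i 0]; exact h, fun h => h 0⟩
  rw [h.det_of_equiv (fun _ => hM0) (aeval T p) (fun _ => p) (fun x i => h.equiv_aeval p x i), Fin.prod_univ_one]

theorem not_isSquare_mul_sq {a c : F} (ha : ¬ IsSquare a) (hc : c ≠ 0) : ¬ IsSquare (a * c ^ 2) := by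
  rintro ⟨b, hb⟩
  apply ha
  refine ⟨b / c, ?_⟩
  field_simp
  linear_combination hb

theorem not_isSquare_pow {a : F} (ha : ¬ IsSquare a) {k : ℕ} (hk : Odd k) : ¬ IsSquare (a ^ k) := by
  obtain ⟨j, rfl⟩ := hk
  have ha0 : a ≠ 0 := by
    rintro rfl
    exact ha ⟨0, by simp⟩
  have := not_isSquare_mul_sq ha (pow_ne_zero j ha0)
  have e : a ^ (2 * j + 1) = a * (a ^ j) ^ 2 := by ring
  rwa [e]

theorem exists_not_isSquare [Fintype F] [DecidableEq F] (h2 : (2 : F) ≠ 0) : ∃ a : F, ¬ IsSquare a := by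
  obtain ⟨a, -, ha⟩ := exists_qc h2 (Or.inr rfl : (-1 : ℤ) = 1 ∨ (-1 : ℤ) = -1)
  exact ⟨a, quadraticChar_neg_one_iff_not_isSquare.1 ha⟩

theorem exists_order [Finite V] (g : V ≃ₗ[F] V) : ∃ n : ℕ, g ^ (n + 1) = 1 := by
  have hfin : Finite (V ≃ₗ[F] V) := Finite.of_injective (fun e : V ≃ₗ[F] V => (e : V → V)) DFunLike.coe_injective
  refine ⟨orderOf g - 1, ?_⟩
  rw [Nat.sub_add_cancel (orderOf_pos g)]
  exact pow_orderOf_eq_one g

theorem en_inv_eq {g : V ≃ₗ[F] V} {n : ℕ} (hn : g ^ (n + 1) = 1) : en g⁻¹ = en g ^ n := by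
  rw [← en_pow]
  congr 1
  rw [pow_succ] at hn
  exact (eq_inv_of_mul_eq_one_left hn).symm

/-- a polynomial in `g⁻¹` is a polynomial in `g` -/
theorem aeval_inv_eq {g : V ≃ₗ[F] V} {n : ℕ} (hn : g ^ (n + 1) = 1) (p : F[X]) :
    aeval (en g⁻¹) p = aeval (en g) (p.comp (X ^ n)) := by
  rw [aeval_comp, map_pow, aeval_X, en_inv_eq hn]

theorem aeval_pow_sub_one {g : V ≃ₗ[F] V} {n : ℕ} (hn : g ^ (n + 1) = 1) :
    aeval (en g) (X ^ (n + 1) - 1 : F[X]) = 0 := by
  rw [map_sub, map_pow, aeval_X, map_one, ← en_pow, hn]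
  exact sub_self _

end Gen

variable {F V : Type*} [Field F] [Fintype F] [AddCommGroup V] [Module F V] [Finite V]

/-- the summary for a cyclic module -/
theorem T_of_gen (h2 : (2 : F) ≠ 0) {Q : QuadraticForm F V} (hQ : Nondeg Q) {g : V ≃ₗ[F] V} (hg : g ∈ O Q) {u : V}
    (hu : ∀ x, ∃ p : F[X], aeval (en g) p u = x) (hgi : ∀ x, g x = g⁻¹ x → x = 0) {d : ℕ}
    (hd : finrank F V = 2 * d) {P : F[X]} (hP : ¬ IsSquare (LinearMap.det (aeval (en g) P)))
    (hP' : LinearMap.det (aeval (en g) P + aeval (en g⁻¹) P) ≠ 0) (s : ℤˣ) : T Q g ((-1) ^ d) s := by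
  classical
  have hfd : FiniteDimensional F V := Module.Finite.of_finite
  obtain ⟨h, hhO, hhh, hhg, hp⟩ := exists_invol h2 hQ hg hu
  have hX : aeval (en g) P * en g = en g * aeval (en g) P := by
    have h1 : aeval (en g) P * aeval (en g) (X : F[X]) = aeval (en g) (X : F[X]) * aeval (en g) P := by
      rw [← map_mul, ← map_mul, mul_comm]
    rwa [aeval_X] at h1
  have hX' : aeval (en g⁻¹) P * en g = en g * aeval (en g⁻¹) P := by
    have h1 := aeval_inv_comm g (X : F[X]) P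
    rw [aeval_X] at h1
    exact h1.symm
  exact T_of_invol h2 hQ hhh hhO hhg hd hg hgi (polar_aeval hg P) (aeval_inv_comm g P P) hX hX' (hp P) hP hP' s

omit [Fintype F] [Finite V] in
/-- `g x = g⁻¹ x` -/
theorem sq_of_eq {g : V ≃ₗ[F] V} {x : V} (h : g x = g⁻¹ x) : aeval (en g) (X ^ 2 - 1 : F[X]) x = 0 := by
  have h1 : g (g x) = x := by
    rw [h]
    exact g.apply_symm_apply x
  rw [map_sub, map_pow, aeval_X, map_one, LinearMap.sub_apply, pow_two, Module.End.mul_apply]
  show g (g x) - x = 0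
  rw [h1, sub_self]

omit [Fintype F] in
theorem not_dvd_sq_sub_one {f : F[X]} (hf : Irreducible f) (h1 : ¬ f ∣ X - 1) (h3 : ¬ f ∣ X + 1) :
    ¬ f ∣ X ^ 2 - 1 := by
  have e : (X ^ 2 - 1 : F[X]) = (X - 1) * (X + 1) := by ring
  rw [e]
  intro h
  rcases hf.prime.dvd_or_dvd h with h | h
  · exact h1 h
  · exact h3 h

/-- **SR-OODD_A, cyclic pieces.** -/
theorem T_cyclic' (h2 : (2 : F) ≠ 0) {Q : QuadraticForm F V} (hQ : Nondeg Q) {g : V ≃ₗ[F] V} (hg : g ∈ O Q) {v : V}
    (hV : cyc g v = ⊤) {f : F[X]} {k : ℕ} (hf : Irreducible f) (hann : Ann g v (f ^ k)) (hk : Odd k)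
    (hf1 : ¬ f ∣ X - 1) (hf2 : ¬ f ∣ X + 1) {d : ℕ} (hd : finrank F V = 2 * d) (s : ℤˣ) :
    T Q g ((-1) ^ d) s := by
  classical
  have hfd : FiniteDimensional F V := Module.Finite.of_finite
  have hu : ∀ x, ∃ p : F[X], aeval (en g) p v = x := by
    intro x
    rw [← mem_cyc, hV]
    trivial
  have hann' : ∀ p : F[X], aeval (en g) p v = 0 ↔ f ^ k ∣ p := hann
  obtain ⟨n, hn⟩ := exists_order g
  have hsq : ¬ f ∣ X ^ 2 - 1 := not_dvd_sq_sub_one hf hf1 hf2
  have hk0 : k ≠ 0 := by rintro rfl; exact absurd hk (by decide)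
  have hgi : ∀ x, g x = g⁻¹ x → x = 0 := by
    intro x hx
    obtain ⟨p, rfl⟩ := hu x
    exact inj_of_ann hf hann' hsq p (sq_of_eq hx)
  -- nonsingular polynomials
  have hns : ∀ q : F[X], ¬ f ∣ q → LinearMap.det (aeval (en g) q) ≠ 0 := by
    intro q hq
    apply det_ne_zero_of_inj
    intro x hx
    obtain ⟨p, rfl⟩ := hu x
    exact inj_of_ann hf hann' hq p hx
  have hfk : f ^ k ∣ X ^ (n + 1) - 1 := by
    rw [← hann', aeval_pow_sub_one hn]
    rfl
  have hfN : f ∣ X ^ (n + 1) - 1 := (dvd_pow_self f hk0).trans hfk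
  have hdet : ∀ p : F[X], LinearMap.det (aeval (en g) p) = nm f p ^ k := by
    intro p
    rw [det_aeval_of_ann (pow_ne_zero k hf.ne_zero) hu hann', nm_pow_left hf.ne_zero]
  obtain ⟨a, ha⟩ := exists_not_isSquare (F := F) h2
  obtain ⟨P, hP⟩ := exists_nm hf a
  have hPns : ¬ IsSquare (LinearMap.det (aeval (en g) P)) := by
    rw [hdet, hP]
    exact not_isSquare_pow ha hk
  have hsum : ∀ p : F[X], aeval (en g) p + aeval (en g⁻¹) p = aeval (en g) (p + p.comp (X ^ n)) := by
    intro p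
    rw [aeval_inv_eq hn, map_add]
  by_cases hdiv : f ∣ P + P.comp (X ^ n)
  · refine T_of_gen h2 hQ hg hu hgi hd (P := P * (X + 1) ^ 2) ?_ ?_ s
    · rw [map_mul, map_pow, map_mul, map_pow]
      exact not_isSquare_mul_sq hPns (hns _ hf2)
    · rw [hsum]
      apply hns
      intro hd2
      rw [mul_comp, pow_comp, add_comp, X_comp, one_comp] at hd2
      -- multiply by `X ^ 2`
      have h3 : f ∣ P * ((X ^ 2 - 1) * (X + 1) ^ 2) := by
        have e : P * ((X ^ 2 - 1) * (X + 1) ^ 2) =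
            X ^ 2 * (P * (X + 1) ^ 2 + P.comp (X ^ n) * (X ^ n + 1) ^ 2) -
              (P + P.comp (X ^ n)) * (X ^ 2 * (X ^ n + 1) ^ 2) +
              (X ^ (n + 1) - 1) * (P * (X ^ (n + 1) + 1 + 2 * X)) := by
          ring
        rw [e]
        exact dvd_add (dvd_sub (hd2.mul_left _) (hdiv.mul_right _)) (hfN.mul_right _)
      rcases hf.prime.dvd_or_dvd h3 with h4 | h4
      · have h6 : nm f P = nm f 0 := nm_congr (by rwa [sub_zero])
        have h7 : nm f (0 : F[X]) * nm f 0 = nm f 0 := by rw [← nm_mul, mul_zero]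
        rw [← h6, hP] at h7
        exact ha ⟨a, h7.symm⟩
      · rcases hf.prime.dvd_or_dvd h4 with h5 | h5
        · exact hsq h5
        · exact hf2 (hf.prime.dvd_of_dvd_pow h5)
  · refine T_of_gen h2 hQ hg hu hgi hd hPns ?_ s
    rw [hsum]
    exact hns _ hdiv

omit [Fintype F] in
/-- an irreducible divisor of `X ∓ 1` is associated to its reverse -/
theorem associated_reverse {f : F[X]} (hf : Irreducible f) (h : f ∣ X - 1 ∨ f ∣ X + 1) : Associated f f.reverse := by
  have hc : ∀ c : F, c = 1 ∨ c = -1 → f ∣ X - C c → Associated f f.reverse := by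
    intro c hc h
    have h1 : Associated f (X - C c) := hf.associated_of_dvd (irreducible_X_sub_C c) h
    obtain ⟨u, hu⟩ := h1.symm
    obtain ⟨a, ha, ha'⟩ := Polynomial.isUnit_iff.1 u.isUnit
    rw [← ha'] at hu
    have hr : (X - C c : F[X]).reverse = C (-c) * (X - C c) := by
      have h3 : (X - C c : F[X]).natDegree = 1 := natDegree_X_sub_C c
      unfold Polynomial.reverse
      rw [h3, reflect_sub, reflect_one_X, reflect_C]
      have h4 : c * c = 1 := by rcases hc with rfl | rfl <;> norm_num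
      rw [map_neg, neg_mul, mul_sub, ← C_mul, h4, C_1, pow_one]
      ring
    rw [← hu, reverse_mul_of_domain, reverse_C, hr]
    have hcu : IsUnit (C (-c) : F[X]) := by
      rw [isUnit_C]
      rcases hc with rfl | rfl <;> simp
    obtain ⟨w, hw⟩ := hcu
    refine ⟨w, ?_⟩
    rw [hw]
    ring
  rcases h with h | h
  · exact hc 1 (Or.inl rfl) (by rwa [C_1])
  · exact hc (-1) (Or.inr rfl) (by rw [C_neg, C_1, sub_neg_eq_add]; exact h)

omit [Fintype F] in
theorem not_dvd_reverse {f : F[X]} (hf : Irreducible f) (h : ¬ Associated f f.reverse) : ¬ f ∣ f.reverse := by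
  rintro ⟨c, hc⟩
  apply h
  have h0 : f.reverse ≠ 0 := by rw [Ne, reverse_eq_zero]; exact hf.ne_zero
  have hc0 : c ≠ 0 := by rintro rfl; rw [mul_zero] at hc; exact h0 hc
  have h1 := reverse_natDegree_le f
  rw [hc, natDegree_mul hf.ne_zero hc0] at h1
  have h3 : c.natDegree = 0 := by omega
  have h4 : IsUnit c := by
    rw [Polynomial.isUnit_iff]
    rw [natDegree_eq_zero] at h3
    obtain ⟨a, rfl⟩ := h3
    refine ⟨a, ?_, rfl⟩
    rw [isUnit_iff_ne_zero]
    rintro rfl
    exact hc0 (map_zero C)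
  obtain ⟨u, hu⟩ := h4
  exact ⟨u, by rw [hu, hc]⟩

/-- **SR-OODD_A, pair pieces.** -/
theorem T_pair' (h2 : (2 : F) ≠ 0) {Q : QuadraticForm F V} (hQ : Nondeg Q) {g : V ≃ₗ[F] V} (hg : g ∈ O Q) {v w : V}
    (hV : cyc g v ⊔ cyc g w = ⊤) {f : F[X]} {k : ℕ} (hf : Irreducible f) (hannv : Ann g v (f ^ k))
    (hannw : Ann g⁻¹ w (f ^ k)) (isov : Iso0 (polarBilin Q) (cyc g v)) (isow : Iso0 (polarBilin Q) (cyc g w))
    (hk : Odd k) (hfr : ¬ Associated f f.reverse) {d : ℕ} (hd : finrank F V = 2 * d) (s : ℤˣ) :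
    T Q g ((-1) ^ d) s := by
  classical
  have hfd : FiniteDimensional F V := Module.Finite.of_finite
  have hv' : ∀ p : F[X], aeval (en g) p v = 0 ↔ f ^ k ∣ p := hannv
  have hw' : ∀ p : F[X], aeval (en g⁻¹) p w = 0 ↔ f ^ k ∣ p := hannw
  obtain ⟨n, hn⟩ := exists_order g
  have hk0 : k ≠ 0 := by rintro rfl; exact absurd hk (by decide)
  have hsq : ¬ f ∣ X ^ 2 - 1 := not_dvd_sq_sub_one hf (fun h => hfr (associated_reverse hf (Or.inl h)))
    (fun h => hfr (associated_reverse hf (Or.inr h)))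
  have hfN : f ∣ X ^ (n + 1) - 1 := by
    refine (dvd_pow_self f hk0).trans ?_
    rw [← hv', aeval_pow_sub_one hn]
    rfl
  have hfX : ¬ f ∣ X := by
    intro h
    have h1 : f ∣ 1 := by
      have e : (1 : F[X]) = X ^ (n + 1) - (X ^ (n + 1) - 1) := by ring
      rw [e]
      exact dvd_sub (h.trans (dvd_pow_self X (Nat.succ_ne_zero n))) hfN
    exact hf.not_isUnit (isUnit_of_dvd_one h1)
  -- the reversed polynomial kills `w`
  have hrev : aeval (en g) (f.reverse ^ k) w = 0 := by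
    let ug : (Module.End F V)ˣ := ⟨en g, en g⁻¹, en_mul_inv g, en_inv_mul g⟩
    have h1 := aeval_reverse (F := F) ug⁻¹ f
    rw [inv_inv] at h1
    have h3 : aeval (en g) f.reverse * (en g⁻¹) ^ f.natDegree = aeval (en g⁻¹) f := h1
    have h4 : aeval (en g) f.reverse = aeval (en g⁻¹) f * aeval (en g) (X ^ f.natDegree : F[X]) := by
      rw [← h3, map_pow, aeval_X, mul_assoc, ← en_pow, ← en_pow, ← en_mul, inv_pow, inv_mul_cancel]
      exact (mul_one _).symm
    have h5 : aeval (en g) (f.reverse ^ k) =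
        aeval (en g) ((X ^ f.natDegree) ^ k : F[X]) * aeval (en g⁻¹) (f ^ k) := by
      have hcm : Commute (aeval (en g⁻¹) f) (aeval (en g) (X ^ f.natDegree : F[X])) :=
        (aeval_inv_comm g (X ^ f.natDegree : F[X]) f).symm
      rw [map_pow, h4, hcm.mul_pow, ← map_pow, ← map_pow, aeval_inv_comm]
    rw [h5, Module.End.mul_apply, (hw' _).2 dvd_rfl, map_zero]
  -- the idempotent `e`
  have hco : IsCoprime (f ^ k) (f.reverse ^ k) :=
    (hf.coprime_iff_not_dvd.2 (not_dvd_reverse hf hfr)).pow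
  obtain ⟨a, b, hab⟩ := hco
  obtain ⟨e, he⟩ : ∃ e : F[X], e = b * f.reverse ^ k := ⟨_, rfl⟩
  have he1 : f ^ k ∣ 1 - e := ⟨a, by rw [he, ← hab]; ring⟩
  have hew : aeval (en g) e w = 0 := by rw [he, aeval_mul_apply, hrev, map_zero]
  have hev : aeval (en g) e v = v := by
    have h1 := (hv' _).2 he1
    rw [map_sub, map_one, LinearMap.sub_apply] at h1
    exact (sub_eq_zero.1 h1).symm
  have hecv : ∀ y ∈ cyc g v, aeval (en g) e y = y := by
    intro y hy
    obtain ⟨p, rfl⟩ := (mem_cyc g v y).1 hy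
    rw [aeval_comm, hev]
  have hecw : ∀ z ∈ cyc g w, aeval (en g) e z = 0 := by
    intro z hz
    obtain ⟨p, rfl⟩ := (mem_cyc g w z).1 hz
    rw [aeval_comm, hew, map_zero]
  have hcycv : ∀ (p : F[X]), ∀ y ∈ cyc g v, aeval (en g) p y ∈ cyc g v := by
    intro p y hy
    obtain ⟨q, rfl⟩ := (mem_cyc g v y).1 hy
    rw [mem_cyc]
    exact ⟨p * q, aeval_mul_apply _ _ _ _⟩
  have hcycw : ∀ (p : F[X]), ∀ y ∈ cyc g w, aeval (en g) p y ∈ cyc g w := by
    intro p y hy
    obtain ⟨q, rfl⟩ := (mem_cyc g w y).1 hy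
    rw [mem_cyc]
    exact ⟨p * q, aeval_mul_apply _ _ _ _⟩
  have hcycw' : ∀ (p : F[X]), ∀ y ∈ cyc g w, aeval (en g⁻¹) p y ∈ cyc g w := by
    intro p y hy
    rw [aeval_inv_eq hn]
    exact hcycw _ y hy
  have hcycv' : ∀ (p : F[X]), ∀ y ∈ cyc g v, aeval (en g⁻¹) p y ∈ cyc g v := by
    intro p y hy
    rw [aeval_inv_eq hn]
    exact hcycv _ y hy
  have hdec : ∀ x, ∃ y ∈ cyc g v, ∃ z ∈ cyc g w, y + z = x := by
    intro x
    rw [← Submodule.mem_sup, hV]
    trivial
  have hvv : v ∈ cyc g v := (mem_cyc g v v).2 ⟨1, by rw [map_one]; rfl⟩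
  have hww : w ∈ cyc g w := (mem_cyc g w w).2 ⟨1, by rw [map_one]; rfl⟩
  -- the adjoint of `e`
  have he'v : ∀ x ∈ cyc g v, aeval (en g⁻¹) e x = 0 := by
    intro x hx
    apply hQ
    intro y
    obtain ⟨y, hy, z, hz, rfl⟩ := hdec y
    rw [polar_comm, ← polar_aeval hg, map_add, hecw z hz, add_zero]
    exact isov _ (hcycv e y hy) _ hx
  have he'w : ∀ x ∈ cyc g w, aeval (en g⁻¹) e x = x := by
    intro x hx
    rw [← sub_eq_zero]
    apply hQ
    intro y
    obtain ⟨y, hy, z, hz, rfl⟩ := hdec y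
    rw [polar_sub_left, polar_comm, ← polar_aeval hg, map_add, hecw z hz, add_zero, hecv y hy, polar_comm Q x,
      polar_add_left]
    have h1 : polar Q z x = 0 := isow _ hz _ hx
    rw [h1, add_zero, sub_self]
  -- the generator `u = v + w`
  obtain ⟨u, hu0⟩ : ∃ u, u = v + w := ⟨_, rfl⟩
  have hu : ∀ x, ∃ p : F[X], aeval (en g) p u = x := by
    intro x
    obtain ⟨y, hy, z, hz, rfl⟩ := hdec x
    obtain ⟨p, rfl⟩ := (mem_cyc g v y).1 hy
    obtain ⟨q, rfl⟩ := (mem_cyc g w z).1 hz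
    refine ⟨p * e + q * (1 - e), ?_⟩
    have k1 : aeval (en g) (p * e + q * (1 - e)) v = aeval (en g) p v := by
      rw [map_add, LinearMap.add_apply, aeval_mul_apply, aeval_mul_apply, map_sub, map_one, LinearMap.sub_apply, hev]
      show aeval (en g) p v + aeval (en g) q (v - v) = _
      rw [sub_self, map_zero, add_zero]
    have k2 : aeval (en g) (p * e + q * (1 - e)) w = aeval (en g) q w := by
      rw [map_add, LinearMap.add_apply, aeval_mul_apply, aeval_mul_apply, map_sub, map_one, LinearMap.sub_apply, hew,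
        map_zero, zero_add, sub_zero]
      rfl
    rw [hu0, LinearMap.map_add, k1, k2]
  -- the annihilator of `w`
  obtain ⟨m, hm⟩ : ∃ m : F[X], ∀ p : F[X], aeval (en g) p w = 0 ↔ m ∣ p := by
    let I : Ideal F[X] :=
      { carrier := {p | aeval (en g) p w = 0}
        add_mem' := fun {a b} ha hb => by
          show aeval (en g) (a + b) w = 0
          rw [map_add, LinearMap.add_apply, ha, hb, add_zero]
        zero_mem' := by
          show aeval (en g) (0 : F[X]) w = 0
          rw [map_zero]; rfl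
        smul_mem' := fun c x hx => by
          show aeval (en g) (c * x) w = 0
          rw [aeval_mul_apply, hx, map_zero] }
    refine ⟨Submodule.IsPrincipal.generator I, fun p => ?_⟩
    rw [← Ideal.mem_span_singleton, Ideal.span_singleton_generator]
    exact Iff.rfl
  have hm0 : m ≠ 0 := by
    rintro rfl
    have h1 := (hm _).1 hrev
    rw [zero_dvd_iff] at h1
    exact pow_ne_zero k (by rw [Ne, reverse_eq_zero]; exact hf.ne_zero) h1
  have hcom : IsCoprime (f ^ k) m :=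
    IsCoprime.of_isCoprime_of_dvd_right (⟨a, b, hab⟩ : IsCoprime (f ^ k) (f.reverse ^ k)) ((hm _).1 hrev)
  have hannu : ∀ p : F[X], aeval (en g) p u = 0 ↔ f ^ k * m ∣ p := by
    intro p
    constructor
    · intro h
      have h1 : aeval (en g) p v = 0 := by
        have h3 : aeval (en g) e (aeval (en g) p u) = aeval (en g) p v := by
          rw [aeval_comm, hu0, map_add, hev, hew, add_zero]
        rw [← h3, h, map_zero]
      have h3 : aeval (en g) p w = 0 := by
        rw [hu0, map_add, h1, zero_add] at h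
        exact h
      exact hcom.mul_dvd ((hv' p).1 h1) ((hm p).1 h3)
    · intro h
      rw [hu0, map_add, (hv' p).2 ((dvd_mul_right _ _).trans h), (hm p).2 ((dvd_mul_left _ _).trans h), add_zero]
  have hdet : ∀ p : F[X], LinearMap.det (aeval (en g) (p * e + (1 - e))) = nm f p ^ k := by
    intro p
    rw [det_aeval_of_ann (mul_ne_zero (pow_ne_zero k hf.ne_zero) hm0) hu hannu,
      nm_mul_left (pow_ne_zero k hf.ne_zero) hm0]
    have h1 : nm (f ^ k) (p * e + (1 - e)) = nm (f ^ k) p := by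
      apply nm_congr
      have e1 : p * e + (1 - e) - p = (1 - e) * (1 - p) := by ring
      rw [e1]
      exact he1.mul_right _
    have h3 : nm m (p * e + (1 - e)) = nm m 1 := by
      apply nm_congr
      have e1 : p * e + (1 - e) - 1 = e * (p - 1) := by ring
      rw [e1]
      exact ((hm e).1 hew).mul_right _
    rw [h1, h3, nm_one_right, mul_one, nm_pow_left hf.ne_zero]
  -- no eigenvalues `±1`
  have hinjv : ∀ q : F[X], ¬ f ∣ q → ∀ y ∈ cyc g v, aeval (en g) q y = 0 → y = 0 := by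
    intro q hq y hy h
    obtain ⟨p, rfl⟩ := (mem_cyc g v y).1 hy
    exact inj_of_ann hf hv' hq p h
  have hinjw : ∀ q : F[X], ¬ f ∣ q → ∀ y ∈ cyc g w, aeval (en g⁻¹) q y = 0 → y = 0 := by
    intro q hq y hy h
    rw [← cyc_inv] at hy
    obtain ⟨p, rfl⟩ := (mem_cyc g⁻¹ w y).1 hy
    exact inj_of_ann hf hw' hq p h
  have hgi : ∀ x, g x = g⁻¹ x → x = 0 := by
    intro x hx
    have h1 := sq_of_eq hx
    have h3 : aeval (en g⁻¹) (X ^ 2 - 1 : F[X]) x = 0 := by
      apply sq_of_eq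
      rw [inv_inv]
      exact hx.symm
    obtain ⟨y, hy, z, hz, rfl⟩ := hdec x
    have hy0 : y = 0 := by
      apply hinjv _ hsq y hy
      have h4 : aeval (en g) e (aeval (en g) (X ^ 2 - 1 : F[X]) (y + z)) = aeval (en g) (X ^ 2 - 1 : F[X]) y := by
        rw [aeval_comm, map_add, hecv y hy, hecw z hz, add_zero]
      rw [← h4, h1, map_zero]
    have hz0 : z = 0 := by
      apply hinjw _ hsq z hz
      rw [hy0, zero_add] at h3
      exact h3
    rw [hy0, hz0, add_zero]
  -- the choice of `p`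
  obtain ⟨c, hc⟩ := exists_not_isSquare (F := F) h2
  obtain ⟨p, hp, hp1⟩ : ∃ p : F[X], ¬ IsSquare (nm f p) ∧ ¬ f ∣ p + 1 := by
    obtain ⟨p, hp⟩ := exists_nm hf c
    by_cases hdiv : f ∣ p + 1
    · refine ⟨p * X ^ 2, ?_, ?_⟩
      · rw [pow_two, nm_mul, nm_mul, hp, ← pow_two]
        apply not_isSquare_mul_sq hc
        intro h0
        obtain ⟨a', b', hab'⟩ := hf.coprime_iff_not_dvd.2 hfX
        have h1 : nm f (b' * X) = nm f 1 := by
          apply nm_congr
          rw [← hab']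
          exact ⟨-a', by ring⟩
        rw [nm_mul, h0, mul_zero, nm_one_right] at h1
        exact zero_ne_one h1
      · intro h
        apply hsq
        have e1 : (X ^ 2 - 1 : F[X]) = (p + 1) * X ^ 2 - (p * X ^ 2 + 1) := by ring
        rw [e1]
        exact dvd_sub (hdiv.mul_right _) h
    · exact ⟨p, by rw [hp]; exact hc, hdiv⟩
  refine T_of_gen h2 hQ hg hu hgi hd (P := p * e + (1 - e)) ?_ ?_ s
  · rw [hdet]
    exact not_isSquare_pow hp hk
  · apply det_ne_zero_of_inj
    intro x hx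
    obtain ⟨y, hy, z, hz, rfl⟩ := hdec x
    have a1 : aeval (en g) (p * e + (1 - e)) y = aeval (en g) p y := by
      rw [map_add, LinearMap.add_apply, aeval_mul_apply, hecv y hy, map_sub, map_one, LinearMap.sub_apply, hecv y hy]
      show aeval (en g) p y + (y - y) = _
      rw [sub_self, add_zero]
    have a2 : aeval (en g) (p * e + (1 - e)) z = z := by
      rw [map_add, LinearMap.add_apply, aeval_mul_apply, hecw z hz, map_sub, map_one, LinearMap.sub_apply, hecw z hz,
        map_zero, zero_add, sub_zero]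
      rfl
    have a3 : aeval (en g⁻¹) (p * e + (1 - e)) y = y := by
      rw [map_add, LinearMap.add_apply, aeval_mul_apply, he'v y hy, map_sub, map_one, LinearMap.sub_apply, he'v y hy,
        map_zero, zero_add, sub_zero]
      rfl
    have a4 : aeval (en g⁻¹) (p * e + (1 - e)) z = aeval (en g⁻¹) p z := by
      rw [map_add, LinearMap.add_apply, aeval_mul_apply, he'w z hz, map_sub, map_one, LinearMap.sub_apply, he'w z hz]
      show aeval (en g⁻¹) p z + (z - z) = _
      rw [sub_self, add_zero]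
    rw [LinearMap.add_apply, LinearMap.map_add, LinearMap.map_add, a1, a2, a3, a4] at hx
    have hx' : aeval (en g) (p + 1) y + aeval (en g⁻¹) (p + 1) z = 0 := by
      rw [map_add, map_add, map_one, map_one, LinearMap.add_apply, LinearMap.add_apply, ← hx]
      show aeval (en g) p y + y + (aeval (en g⁻¹) p z + z) = _
      abel
    have hy0 : y = 0 := by
      apply hinjv _ hp1 y hy
      have h4 := congrArg (aeval (en g) e) hx'
      rw [map_add, hecv _ (hcycv _ y hy), hecw _ (hcycw' _ z hz), add_zero, map_zero] at h4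
      exact h4
    have hz0 : z = 0 := by
      apply hinjw _ hp1 z hz
      rw [hy0, map_zero, zero_add] at hx'
      exact hx'
    rw [hy0, hz0, add_zero]

/-- **SR-OODD_A, cyclic pieces** (interface form). -/
theorem T_cyclic (h2 : (2 : F) ≠ 0) {Q : QuadraticForm F V} (hQ : Nondeg Q) {g : V ≃ₗ[F] V} (hg : g ∈ O Q) {v : V}
    (hV : cyc g v = ⊤) {f : F[X]} {k : ℕ} (hP : CPiece (polarBilin Q) g f k v) (hk : Odd k)
    (hf1 : ¬ Associated f (X - 1)) (hf2 : ¬ Associated f (X + 1)) {d : ℕ} (hd : finrank F V = 2 * d) (s : ℤˣ) :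
    T Q g ((-1) ^ d) s := by
  refine T_cyclic' h2 hQ hg hV hP.irr hP.ann hk (fun h => hf1 ?_) (fun h => hf2 ?_) hd s
  · refine hP.irr.associated_of_dvd ?_ h
    rw [← C_1]
    exact irreducible_X_sub_C 1
  · refine hP.irr.associated_of_dvd ?_ h
    have e : (X + 1 : F[X]) = X - C (-1) := by rw [C_neg, C_1, sub_neg_eq_add]
    rw [e]
    exact irreducible_X_sub_C (-1)

/-- **SR-OODD_A, pair pieces** (interface form). -/
theorem T_pair (h2 : (2 : F) ≠ 0) {Q : QuadraticForm F V} (hQ : Nondeg Q) {g : V ≃ₗ[F] V} (hg : g ∈ O Q) {v w : V}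
    (hV : cyc g v ⊔ cyc g w = ⊤) {f : F[X]} {k : ℕ} (hP : PPiece (polarBilin Q) g f k v w) (hk : Odd k)
    (hfr : ¬ Associated f f.reverse) {d : ℕ} (hd : finrank F V = 2 * d) (s : ℤˣ) : T Q g ((-1) ^ d) s :=
  T_pair' h2 hQ hg hV hP.irr hP.annv hP.annw hP.isov hP.isow hk hfr hd s

end Cfsg.Agent.H595.SR
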